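import Mathlib

/-!
# PIECE S44-BRIDGE (row S4004): `(v g)^r = N_g(v) g^r` for `v` in an abelian normal subgroup `V`  (SMALL-MEDIUM; Mathlib only)

`φ = MulAut.conjNormal : G →* MulAut ↥V` (`MulAut.conjNormal_apply : ↑(MulAut.conjNormal g v) = g * v * g⁻¹`).
`CommGroup ↥V` comes from `[IsMulCommutative ↥V]` via `open scoped IsMulCommutative`.
`mul_pow_eq_norm`: induction on `r`.  `r = 0`: both sides `1`.  Step: `(v g)^(r+1) = (v g)^r * (v g)
= N_r * g^r * v * g = N_r * (g^r v g^-r) * g^(r+1)` and `Finset.prod_range_succ`; coerce with `Subgroup.coe_mul`,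
`MulAut.conjNormal_apply`; finish with `group` after `rw [pow_succ]`'s (or `simp [mul_assoc]`).
`norm_eq_one`: from `mul_pow_eq_norm` with `g ^ r = 1` and `(v g)^r = 1`.  Aux names: prefix `s44bridge_`.
-/

set_option autoImplicit false

namespace Cfsg.Agent.Helper9.S44

open scoped IsMulCommutative

variable {G : Type*} [Group G]

theorem mul_pow_eq_norm (V : Subgroup G) [V.Normal] [IsMulCommutative ↥V] (v : ↥V) (g : G) (r : ℕ) :
    ((v : G) * g) ^ r =
      ((∏ i ∈ Finset.range r, (MulAut.conjNormal (H := V) (g ^ i)) v : ↥V) : G) * g ^ r := by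
  induction r with
  | zero => simp
  | succ r ih =>
    rw [pow_succ, ih, Finset.prod_range_succ, Subgroup.coe_mul, MulAut.conjNormal_apply, pow_succ]
    group

theorem norm_eq_one (V : Subgroup G) [V.Normal] [IsMulCommutative ↥V] (v : ↥V) (g : G) (r : ℕ)
    (hg : g ^ r = 1) (hvg : ((v : G) * g) ^ r = 1) :
    ∏ i ∈ Finset.range r, (MulAut.conjNormal (H := V) (g ^ i)) v = 1 := by
  have h := mul_pow_eq_norm V v g r
  rw [hvg, hg, mul_one] at h
  exact Subtype.ext h.symm

end Cfsg.Agent.Helper9.S44
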