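import Mathlib
import Cfsg.Agent.Lib.Helper20.OrderCount

/-!
# S4004 part 2 (design: helper9): definitions

`G` of odd order `p^a q^b` in which the numbers `ordCnt G k` (`k` an element order) take exactly the three
values `1`, `m = ordCnt G p`, `n = ordCnt G q`.  Plan (all elementary, see the piece files):
1. `no_pq`: no element of order `p q` (Frobenius at `p q` + a fixed point of `⟨x⟩` on the elements of order `q`
   + the injection `(x, y) ↦ x y` of commuting pairs into the elements of order `p q`).
2. `no_sq`: no element of order `p²`, `q²` (Frobenius at `p²` + `⟨y⟩` acts without fixed points on them).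
3. so all element orders are `1, p, q` (`OrdPQ`); the Sylow subgroups have prime exponent.
4. an abelian normal `p`-subgroup `V ≠ 1` exists (`G` is solvable); a norm computation on `V` shows that a
   Sylow `q`-subgroup has order `q` and is self-normalizing: it is a Frobenius complement of prime order.
-/

set_option autoImplicit false

namespace Cfsg.Agent.Helper9.S44

open Cfsg.Agent.Helper20 (ordCnt)

/-- all element orders are `1`, `p` or `q` -/
def OrdPQ (G : Type*) [Group G] (p q : ℕ) : Prop :=
  ∀ g : G, orderOf g = 1 ∨ orderOf g = p ∨ orderOf g = q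

theorem OrdPQ.symm {G : Type*} [Group G] {p q : ℕ} (h : OrdPQ G p q) : OrdPQ G q p := by
  intro g
  rcases h g with h1 | h1 | h1
  · exact Or.inl h1
  · exact Or.inr (Or.inr h1)
  · exact Or.inr (Or.inl h1)

/-- the two-prime setting of S4004 -/
structure TwoP (G : Type*) [Group G] (p q m n : ℕ) : Prop where
  hp : p.Prime
  hq : q.Prime
  hp2 : p ≠ 2
  hq2 : q ≠ 2
  hpq : p ≠ q
  hpN : p ∣ Nat.card G
  hqN : q ∣ Nat.card G
  only : ∀ r : ℕ, r.Prime → r ∣ Nat.card G → r = p ∨ r = q
  sp : ordCnt G p = m
  sq : ordCnt G q = n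
  hmn : m ≠ n
  vals : ∀ k, 3 ≤ k → ordCnt G k = 0 ∨ ordCnt G k = m ∨ ordCnt G k = n

theorem TwoP.symm {G : Type*} [Group G] {p q m n : ℕ} (h : TwoP G p q m n) : TwoP G q p n m :=
  { hp := h.hq
    hq := h.hp
    hp2 := h.hq2
    hq2 := h.hp2
    hpq := fun e => h.hpq e.symm
    hpN := h.hqN
    hqN := h.hpN
    only := fun r hr hrN => (h.only r hr hrN).symm
    sp := h.sq
    sq := h.sp
    hmn := fun e => h.hmn e.symm
    vals := fun k hk => by
      rcases h.vals k hk with h0 | h0 | h0
      · exact Or.inl h0
      · exact Or.inr (Or.inr h0)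
      · exact Or.inr (Or.inl h0) }

end Cfsg.Agent.Helper9.S44
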