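import Mathlib

/-!
# PIECE S44-CORE (row S4004): the norm computation, abstract form  (MEDIUM, pure algebra; Mathlib only)

`V` a commutative group on which `G` acts through `φ : G →* MulAut V`.  `y, g₀ : G`.  If the `q`-norm of `y` and the
`r`-norms of all `g₀ y^j` (`j < q`) vanish on `V`, and for `0 < i < r` the powers `(g₀ y^j)^i` (`j < q`) are the elements
`g₀^i y^k` (`k < q`) in some order, then `v ^ q = 1` for all `v : V`.

PROOF.  `1 = ∏ j : Fin q, ∏ i ∈ range r, φ ((g₀ * y^j)^i) v` (each inner product is `1`).  `Finset.prod_comm`.  Write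
`r = r' + 1` and split off `i = 0` (`Finset.prod_range_succ'`): the `i = 0` factor is `∏ j : Fin q, v = v ^ q`
(`pow_zero`, `map_one`, `MulAut.one_apply`, `Finset.prod_const`, `Finset.card_univ`, `Fintype.card_fin`).
For `i = i' + 1 < r`: with `σ` from `hσ`: `∏ j, φ (g₀^i * y^(σ j)) v = ∏ j, φ (g₀^i) (φ (y^(σ j)) v)` (`map_mul`,
`MulAut.mul_apply`) `= φ (g₀^i) (∏ j, φ (y^(σ j)) v)` (`map_prod`) `= φ (g₀^i) (∏ k : Fin q, φ (y^k) v)`
(`Equiv.prod_comp σ`) `= φ (g₀^i) (∏ k ∈ range q, φ (y^k) v)` (`Fin.prod_univ_eq_prod_range`) `= φ (g₀^i) 1 = 1`.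
Aux names: prefix `s44core_`.
-/

set_option autoImplicit false

namespace Cfsg.Agent.Helper9.S44

theorem pow_eq_one_of_norms {G : Type*} [Group G] {V : Type*} [CommGroup V] (φ : G →* MulAut V)
    (y g₀ : G) (q r : ℕ) (hr : 0 < r)
    (hy : ∀ v : V, ∏ k ∈ Finset.range q, φ (y ^ k) v = 1)
    (hg : ∀ j : Fin q, ∀ v : V, ∏ i ∈ Finset.range r, φ ((g₀ * y ^ (j : ℕ)) ^ i) v = 1)
    (hσ : ∀ i, 0 < i → i < r → ∃ σ : Equiv.Perm (Fin q), ∀ j : Fin q,
      (g₀ * y ^ (j : ℕ)) ^ i = g₀ ^ i * y ^ ((σ j : Fin q) : ℕ)) :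
    ∀ v : V, v ^ q = 1 := by
  intro v
  -- the double product is trivial
  have h1 : ∏ j : Fin q, ∏ i ∈ Finset.range r, φ ((g₀ * y ^ (j : ℕ)) ^ i) v = 1 :=
    Finset.prod_eq_one (fun j _ => hg j v)
  rw [Finset.prod_comm] at h1
  obtain ⟨r', rfl⟩ : ∃ r', r = r' + 1 := ⟨r - 1, by omega⟩
  rw [Finset.prod_range_succ'] at h1
  -- the factor `i = 0`
  have h0 : ∏ j : Fin q, φ ((g₀ * y ^ (j : ℕ)) ^ 0) v = v ^ q := by
    simp [pow_zero, map_one, MulAut.one_apply, Finset.prod_const, Finset.card_univ,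
      Fintype.card_fin]
  -- the factors `i = i' + 1`
  have hrest : ∏ i ∈ Finset.range r', ∏ j : Fin q, φ ((g₀ * y ^ (j : ℕ)) ^ (i + 1)) v = 1 := by
    apply Finset.prod_eq_one
    intro i hi
    have hi' : i + 1 < r' + 1 := by
      have := Finset.mem_range.1 hi
      omega
    obtain ⟨σ, hσ'⟩ := hσ (i + 1) (Nat.succ_pos i) hi'
    have e1 : ∏ j : Fin q, φ ((g₀ * y ^ (j : ℕ)) ^ (i + 1)) v
        = ∏ j : Fin q, φ (g₀ ^ (i + 1)) (φ (y ^ ((σ j : Fin q) : ℕ)) v) := by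
      apply Finset.prod_congr rfl
      intro j _
      rw [hσ' j, map_mul, MulAut.mul_apply]
    rw [e1, ← map_prod]
    have e2 : ∏ j : Fin q, φ (y ^ ((σ j : Fin q) : ℕ)) v = ∏ k : Fin q, φ (y ^ (k : ℕ)) v :=
      Equiv.prod_comp σ (fun k : Fin q => φ (y ^ (k : ℕ)) v)
    rw [e2, Fin.prod_univ_eq_prod_range (fun k => φ (y ^ k) v) q, hy v, map_one]
  rw [hrest, one_mul, h0] at h1
  exact h1

end Cfsg.Agent.Helper9.S44
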