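import Mathlib

/-!
# PIECE S44-PERM (row S4004): the powers `(g₀ y^j)^i`, `j < q`, run through `g₀^i y^k`, `k < q`  (MEDIUM; Mathlib only)

`y` of order `q`; `g₀` normalizes `⟨y⟩` (`hn`); all `g₀ y^j` have the same order `r`, and `0 < i < r` with `r` prime.

`pow_mem_coset`: by induction on `i`: `∃ k : Fin q, (g₀ * y^j)^i = g₀^i * y^k`.  Step: `(g₀ y^j)^(i+1) = (g₀ y^j)^i * (g₀ y^j)
= g₀^i y^k g₀ y^j = g₀^(i+1) (g₀⁻¹ y^k g₀) y^j`, and `g₀⁻¹ y^k g₀ ∈ zpowers y`: from `hn`, conjugation by `g₀` maps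
`zpowers y` INTO itself, and since `zpowers y` is finite it maps it ONTO itself, so `g₀⁻¹ * y * g₀ ∈ zpowers y` too
(alternative without finiteness: `g₀⁻¹ = g₀^(r-1)`-type argument is not available for `g₀` itself; use instead:
the map `c : zpowers y → zpowers y`, `c t = g₀ t g₀⁻¹` is injective on a finite set (`Nat.card (zpowers y) = q ≠ 0`), hence
surjective, `Finite.injective_iff_surjective`).  An element of `zpowers y` is `y^k` with `k < q`
(`Subgroup.mem_zpowers_iff`, then reduce mod `orderOf y`: `zpow_mod_orderOf`, `Int.toNat`; or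
`mem_zpowers_iff_mem_range_orderOf`/`mem_powers_iff_mem_range_orderOf`).
`exists_perm`: choose `f : Fin q → Fin q` with `(g₀ * y^j)^i = g₀^i * y^(f j)`.  `f` is injective: if `f j = f j'` then
`(g₀ y^j)^i = (g₀ y^j')^i`; as both have order `r` prime and `0 < i < r`, `i` is coprime to `r`, so
`a = (a^i)^u` with `i * u ≡ 1 [MOD r]` for `a = g₀ y^j` and for `a = g₀ y^j'` (`pow_mul`, `pow_eq_pow_iff_modEq` /
`pow_mod_orderOf`), hence `g₀ y^j = g₀ y^j'`, `y^j = y^j'`, `j = j'` (`pow_injOn_Iio_orderOf`, `Fin.ext`).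
`σ := Equiv.ofBijective f (Finite.injective_iff_bijective.1 hf)`.  Aux names: prefix `s44perm_`.
-/

set_option autoImplicit false

namespace Cfsg.Agent.Helper9.S44

variable {G : Type*} [Group G]

theorem s44perm_inv_conj (y g₀ : G) (q : ℕ) (hq : 0 < q) (hy : orderOf y = q)
    (hn : g₀ * y * g₀⁻¹ ∈ Subgroup.zpowers y) : g₀⁻¹ * y * g₀ ∈ Subgroup.zpowers y := by
  have hfin : IsOfFinOrder y := by
    rw [← orderOf_pos_iff, hy]
    exact hq
  haveI : Finite (Subgroup.zpowers y) := hfin.finite_zpowers.to_subtype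
  have hle : Subgroup.zpowers (g₀ * y * g₀⁻¹) ≤ Subgroup.zpowers y := Subgroup.zpowers_le.2 hn
  have hord : orderOf (g₀ * y * g₀⁻¹) = orderOf y := (MulAut.conj g₀).orderOf_eq y
  have heq := Subgroup.eq_of_le_of_card_ge hle (by rw [Nat.card_zpowers, Nat.card_zpowers, hord])
  have hy' : y ∈ Subgroup.zpowers (g₀ * y * g₀⁻¹) := by
    rw [heq]
    exact Subgroup.mem_zpowers y
  obtain ⟨m, hm⟩ := Subgroup.mem_zpowers_iff.1 hy'
  rw [Subgroup.mem_zpowers_iff]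
  refine ⟨m, ?_⟩
  rw [conj_zpow] at hm
  calc y ^ m = g₀⁻¹ * (g₀ * y ^ m * g₀⁻¹) * g₀ := by group
    _ = g₀⁻¹ * y * g₀ := by rw [hm]

theorem s44perm_conj_mem (y g₀ : G) (q : ℕ) (hq : 0 < q) (hy : orderOf y = q)
    (hn : g₀ * y * g₀⁻¹ ∈ Subgroup.zpowers y) {t : G} (ht : t ∈ Subgroup.zpowers y) :
    g₀⁻¹ * t * g₀ ∈ Subgroup.zpowers y := by
  obtain ⟨k, rfl⟩ := Subgroup.mem_zpowers_iff.1 ht
  have h1 := s44perm_inv_conj y g₀ q hq hy hn
  have h2 : g₀⁻¹ * y ^ k * g₀ = (g₀⁻¹ * y * g₀) ^ k := by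
    have := conj_zpow (a := g₀⁻¹) (b := y) (i := k)
    rw [inv_inv] at this
    exact this.symm
  rw [h2]
  exact zpow_mem h1 k

theorem s44perm_fin (y : G) (q : ℕ) (hq : 0 < q) (hy : orderOf y = q) {t : G}
    (ht : t ∈ Subgroup.zpowers y) : ∃ k : Fin q, t = y ^ (k : ℕ) := by
  have hfin : IsOfFinOrder y := by
    rw [← orderOf_pos_iff, hy]
    exact hq
  obtain ⟨n, hn⟩ := hfin.mem_powers_iff_mem_zpowers.2 ht
  refine ⟨⟨n % q, Nat.mod_lt _ hq⟩, ?_⟩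
  show t = y ^ (n % q)
  rw [← hy, pow_mod_orderOf]
  exact hn.symm

theorem pow_mem_coset (y g₀ : G) (q : ℕ) (hq : 0 < q) (hy : orderOf y = q)
    (hn : g₀ * y * g₀⁻¹ ∈ Subgroup.zpowers y) (j : ℕ) (i : ℕ) :
    ∃ k : Fin q, (g₀ * y ^ j) ^ i = g₀ ^ i * y ^ (k : ℕ) := by
  induction i with
  | zero =>
    exact ⟨⟨0, hq⟩, by simp⟩
  | succ i ih =>
    obtain ⟨k, hk⟩ := ih
    have h1 : g₀⁻¹ * y ^ (k : ℕ) * g₀ ∈ Subgroup.zpowers y :=
      s44perm_conj_mem y g₀ q hq hy hn (Subgroup.npow_mem_zpowers y _)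
    have h2 : g₀⁻¹ * y ^ (k : ℕ) * g₀ * y ^ j ∈ Subgroup.zpowers y :=
      mul_mem h1 (Subgroup.npow_mem_zpowers y _)
    obtain ⟨k', hk'⟩ := s44perm_fin y q hq hy h2
    refine ⟨k', ?_⟩
    rw [pow_succ, hk, pow_succ, ← hk']
    group

theorem exists_perm (y g₀ : G) (q r : ℕ) (hq : 0 < q) (hy : orderOf y = q) (hr : r.Prime)
    (hn : g₀ * y * g₀⁻¹ ∈ Subgroup.zpowers y)
    (hord : ∀ j : Fin q, orderOf (g₀ * y ^ (j : ℕ)) = r) (i : ℕ) (hi0 : 0 < i) (hir : i < r) :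
    ∃ σ : Equiv.Perm (Fin q), ∀ j : Fin q,
      (g₀ * y ^ (j : ℕ)) ^ i = g₀ ^ i * y ^ ((σ j : Fin q) : ℕ) := by
  choose f hf using fun j : Fin q => pow_mem_coset y g₀ q hq hy hn (j : ℕ) i
  have hcop : Nat.Coprime i r := by
    rw [Nat.coprime_comm]
    exact (Nat.Prime.coprime_iff_not_dvd hr).2 (Nat.not_dvd_of_pos_of_lt hi0 hir)
  obtain ⟨u, -, hu⟩ := Nat.exists_mul_mod_eq_one_of_coprime hcop hr.one_lt
  have hrec : ∀ j : Fin q, ((g₀ * y ^ (j : ℕ)) ^ i) ^ u = g₀ * y ^ (j : ℕ) := by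
    intro j
    rw [← pow_mul, ← pow_mod_orderOf, hord j, hu, pow_one]
  have hinj : Function.Injective f := by
    intro j j' hjj
    have h1 : (g₀ * y ^ (j : ℕ)) ^ i = (g₀ * y ^ (j' : ℕ)) ^ i := by
      rw [hf j, hf j', hjj]
    have h2 : g₀ * y ^ (j : ℕ) = g₀ * y ^ (j' : ℕ) := by
      rw [← hrec j, ← hrec j', h1]
    have h3 : y ^ (j : ℕ) = y ^ (j' : ℕ) := mul_left_cancel h2
    apply Fin.ext
    apply pow_injOn_Iio_orderOf (x := y)
    · rw [Set.mem_Iio, hy]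
      exact j.2
    · rw [Set.mem_Iio, hy]
      exact j'.2
    · exact h3
  refine ⟨Equiv.ofBijective f (Finite.injective_iff_bijective.1 hinj), fun j => ?_⟩
  rw [Equiv.ofBijective_apply]
  exact hf j

end Cfsg.Agent.Helper9.S44
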