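import Mathlib
import Cfsg.Agent.Lib.S44.S44Defs
import Cfsg.Agent.Lib.S44.S44Core
import Cfsg.Agent.Lib.S44.S44Perm
import Cfsg.Agent.Lib.S44.S44Bridge

/-!
# PIECE S44-SYLQ (row S4004): the Sylow `q`-subgroups have order `q`  (MEDIUM-HARD, uses CORE/PERM/BRIDGE by statement)

Setting: all element orders are `1, p, q` (`hord`), `V ≠ ⊥` an abelian normal `p`-subgroup.

`norm_q_eq_one`: for `y` of order `q` and `v : V`: `∏ k ∈ range q, conjNormal (y^k) v = 1`.  By `norm_eq_one` it suffices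
that `(v y)^q = 1`.  The order of `v y` is `1`, `p` or `q`.  If it is `1` or `q` fine.  If it is `p` then by
`mul_pow_eq_norm` `(v y)^p = N * y^p = 1` gives `y^p ∈ V`; `orderOf (y^p) = q` (`orderOf_pow_coprime`/`Nat.Coprime.orderOf_pow`, `p, q` coprime), but elements
of the `p`-group `V` have order a power of `p` (`hVp.iff_orderOf`/`IsPGroup` of `⟨y^p, _⟩`, `Subgroup.orderOf_mk`):
`q = p^k` forces `k = 1`, `q = p` (`Nat.prime_dvd_prime_iff_eq`, `Nat.Prime.eq_one_of_pos_of_dvd`...): contradiction.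
`not_sq_dvd`: suppose `q^2 ∣ Nat.card G`.  `Sylow.exists_subgroup_card_pow_prime q h` gives `E` with `Nat.card E = q^2`;
`E` is commutative (`IsPGroup.commutative_of_card_eq_prime_sq`); every `e ∈ E`, `e ≠ 1`, has order `q` (order divides
`q^2` and lies in `{1, p, q}`).  Take `z ∈ E`, `z ≠ 1` and `y ∈ E` with `y ∉ zpowers z`
(`Nat.card (zpowers z) = q < q^2`).  `z ∉ zpowers y` (else `zpowers z ≤ zpowers y`, equal cardinality `q`, so
`y ∈ zpowers z`).  For `j : Fin q`: `g_j = z * y^j ∈ E`, `g_j ≠ 1` (else `z = (y^j)⁻¹ ∈ zpowers y`), so `orderOf g_j = q`.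
`z * y * z⁻¹ = y ∈ zpowers y`.  Apply `pow_eq_one_of_norms (MulAut.conjNormal) y z q q`: `hy := norm_q_eq_one`,
`hg j := norm_q_eq_one` for `g_j`, `hσ := exists_perm y z q q _ _ hq.prime ...`.  Conclusion `v^q = 1` for all `v : V`;
`V ≠ ⊥` gives `v ≠ 1`, whose order is a power of `p` dividing `q`: contradiction.  Aux names: prefix `s44sylq_`.
-/

set_option autoImplicit false

namespace Cfsg.Agent.Helper9.S44

open scoped IsMulCommutative

variable {G : Type*} [Group G] [Finite G]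

omit [Finite G] in
/-- an element of a `p`-subgroup has no order `q ≠ p` -/
theorem s44sylq_not_order_q {p q : ℕ} (hp : p.Prime) (hq : q.Prime) (hpq : p ≠ q)
    (V : Subgroup G) (hVp : IsPGroup p ↥V) (x : G) (hx : x ∈ V) (hxq : orderOf x = q) : False := by
  obtain ⟨k, hk⟩ := hVp ⟨x, hx⟩
  have h1 : x ^ p ^ k = 1 := by
    have h2 := congrArg Subtype.val hk
    simpa using h2
  have h3 : q ∣ p ^ k := by
    rw [← hxq]
    exact orderOf_dvd_of_pow_eq_one h1
  have h4 : q ∣ p := Nat.Prime.dvd_of_dvd_pow hq h3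
  exact hpq ((Nat.prime_dvd_prime_iff_eq hq hp).1 h4).symm

theorem norm_q_eq_one {p q : ℕ} (hp : p.Prime) (hq : q.Prime) (hpq : p ≠ q) (hord : OrdPQ G p q)
    (V : Subgroup G) [V.Normal] [IsMulCommutative ↥V] (hVp : IsPGroup p ↥V) (y : G) (hy : orderOf y = q)
    (v : ↥V) : ∏ k ∈ Finset.range q, (MulAut.conjNormal (H := V) (y ^ k)) v = 1 := by
  have hyq : y ^ q = 1 := by rw [← hy]; exact pow_orderOf_eq_one y
  apply norm_eq_one V v y q hyq
  rcases hord ((v : G) * y) with h1 | h1 | h1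
  · rw [orderOf_eq_one_iff] at h1
    rw [h1, one_pow]
  · exfalso
    have h2 : ((v : G) * y) ^ p = 1 := by rw [← h1]; exact pow_orderOf_eq_one _
    rw [mul_pow_eq_norm V v y p] at h2
    have h3 : y ^ p ∈ V := by
      have h4 : y ^ p = ((∏ i ∈ Finset.range p, (MulAut.conjNormal (H := V) (y ^ i)) v : ↥V) : G)⁻¹ :=
        (inv_eq_of_mul_eq_one_right h2).symm
      rw [h4]
      exact V.inv_mem (SetLike.coe_mem _)
    have h5 : orderOf (y ^ p) = q := by
      have hc : (orderOf y).Coprime p := by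
        rw [hy]
        exact (Nat.coprime_primes hq hp).2 (Ne.symm hpq)
      rw [hc.orderOf_pow, hy]
    exact s44sylq_not_order_q hp hq hpq V hVp _ h3 h5
  · rw [← h1]
    exact pow_orderOf_eq_one _

theorem not_sq_dvd {p q : ℕ} (hp : p.Prime) (hq : q.Prime) (hpq : p ≠ q) (hord : OrdPQ G p q)
    (V : Subgroup G) [V.Normal] [IsMulCommutative ↥V] (hV : V ≠ ⊥) (hVp : IsPGroup p ↥V) :
    ¬ q ^ 2 ∣ Nat.card G := by
  intro hdvd
  have hqF : Fact q.Prime := ⟨hq⟩
  obtain ⟨E, hE⟩ := Sylow.exists_subgroup_card_pow_prime q hdvd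
  have hEc : IsMulCommutative ↥E := IsPGroup.isMulCommutative_of_card_eq_prime_sq hE
  have hEcomm : ∀ a b : ↥E, a * b = b * a := fun a b => hEc.is_comm.comm a b
  have hcomm : ∀ a ∈ E, ∀ b ∈ E, a * b = b * a := by
    intro a ha b hb
    have h1 := hEcomm ⟨a, ha⟩ ⟨b, hb⟩
    exact congrArg Subtype.val h1
  have hq2 : 2 ≤ q := hq.two_le
  -- nontrivial elements of `E` have order `q`
  have hordE : ∀ e ∈ E, e ≠ 1 → orderOf e = q := by
    intro e he hne
    have h1 : orderOf e ∣ q ^ 2 := by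
      rw [← hE]
      exact Subgroup.orderOf_dvd_natCard E he
    rcases hord e with h2 | h2 | h2
    · exact absurd (orderOf_eq_one_iff.1 h2) hne
    · exfalso
      rw [h2] at h1
      have h3 : p ∣ q := Nat.Prime.dvd_of_dvd_pow hp h1
      exact hpq ((Nat.prime_dvd_prime_iff_eq hp hq).1 h3)
    · exact h2
  -- choose `z`
  have hEne : E ≠ ⊥ := by
    rw [← Subgroup.one_lt_card_iff_ne_bot, hE]
    nlinarith
  obtain ⟨⟨z, hzE⟩, hz1⟩ := (Subgroup.ne_bot_iff_exists_ne_one).1 hEne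
  have hz1' : z ≠ 1 := fun h => hz1 (Subtype.ext h)
  have hzq : orderOf z = q := hordE z hzE hz1'
  -- choose `y` outside `zpowers z`
  have hzle : Subgroup.zpowers z ≤ E := Subgroup.zpowers_le.2 hzE
  have hzlt : Subgroup.zpowers z < E := by
    refine lt_of_le_of_ne hzle ?_
    intro heq
    have h1 : Nat.card (Subgroup.zpowers z) = q := by rw [Nat.card_zpowers, hzq]
    rw [heq, hE] at h1
    nlinarith
  obtain ⟨y, hyE, hyz⟩ := SetLike.exists_of_lt hzlt
  have hy1 : y ≠ 1 := fun h => hyz (h ▸ Subgroup.one_mem _)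
  have hyq : orderOf y = q := hordE y hyE hy1
  have hzy : z ∉ Subgroup.zpowers y := by
    intro h
    have hle : Subgroup.zpowers z ≤ Subgroup.zpowers y := Subgroup.zpowers_le.2 h
    have hcard : Nat.card (Subgroup.zpowers y) ≤ Nat.card (Subgroup.zpowers z) := by
      rw [Nat.card_zpowers, Nat.card_zpowers, hzq, hyq]
    have heq := Subgroup.eq_of_le_of_card_ge hle hcard
    exact hyz (heq ▸ Subgroup.mem_zpowers y)
  -- the elements `z * y ^ j`
  have hgE : ∀ j : ℕ, z * y ^ j ∈ E := fun j => E.mul_mem hzE (E.pow_mem hyE j)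
  have hgq : ∀ j : ℕ, orderOf (z * y ^ j) = q := by
    intro j
    apply hordE _ (hgE j)
    intro h
    apply hzy
    have h1 : z = (y ^ j)⁻¹ := eq_inv_of_mul_eq_one_left h
    rw [h1]
    exact Subgroup.inv_mem _ (Subgroup.pow_mem _ (Subgroup.mem_zpowers y) j)
  have hn : z * y * z⁻¹ ∈ Subgroup.zpowers y := by
    rw [hcomm z hzE y hyE, mul_inv_cancel_right]
    exact Subgroup.mem_zpowers y
  have hall := pow_eq_one_of_norms (MulAut.conjNormal (H := V)) y z q q hq.pos
    (fun v => norm_q_eq_one hp hq hpq hord V hVp y hyq v)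
    (fun j v => norm_q_eq_one hp hq hpq hord V hVp (z * y ^ (j : ℕ)) (hgq j) v)
    (fun i hi0 hiq => exists_perm y z q q hq.pos hyq hq hn (fun j => hgq j) i hi0 hiq)
  -- a nontrivial element of `V` of order dividing `q`
  obtain ⟨v, hv1⟩ := (Subgroup.ne_bot_iff_exists_ne_one).1 hV
  have hvq : (v : G) ^ q = 1 := by
    have h1 := congrArg Subtype.val (hall v)
    simpa using h1
  have hv1' : (v : G) ≠ 1 := fun h => hv1 (Subtype.ext h)
  have hvo : orderOf (v : G) = q := by
    have h1 : orderOf (v : G) ∣ q := orderOf_dvd_of_pow_eq_one hvq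
    rcases (Nat.dvd_prime hq).1 h1 with h2 | h2
    · exact absurd (orderOf_eq_one_iff.1 h2) hv1'
    · exact h2
  exact s44sylq_not_order_q hp hq hpq V hVp (v : G) v.2 hvo

end Cfsg.Agent.Helper9.S44
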