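import Mathlib
import Cfsg.Agent.Lib.S44.S44Defs
import Cfsg.Agent.Lib.S44.S44Core
import Cfsg.Agent.Lib.S44.S44Perm
import Cfsg.Agent.Lib.S44.S44Bridge
import Cfsg.Agent.Lib.S44.S44SylQ

/-!
# PIECE S44-NORMQ (row S4004): no element of order `p` normalizes a subgroup of order `q`  (MEDIUM-HARD)

Setting as in S44-SYLQ; `y` of order `q`, `g₀` of order `p` with `g₀ y g₀⁻¹ ∈ ⟨y⟩`.  Contradiction:
* `g_j := g₀ * y^j` has order `p` for every `j`: its order is `1`, `p` or `q`.  Not `1`: else `g₀ = (y^j)⁻¹ ∈ zpowers y`,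
  so `p = orderOf g₀ ∣ Nat.card (zpowers y) = q`.  Not `q`: `pow_mem_coset y g₀ q _ hy hn j q` gives
  `(g₀ y^j)^q = g₀^q y^k`; if this is `1` then `g₀^q = (y^k)⁻¹ ∈ zpowers y`, and `orderOf (g₀^q) = p` (coprime), so again
  `p ∣ q`.
* `norm_p_eq_one`: for `g` of order `p` and `v : V`: `(v g)^p = 1` because `v g ∈ V ⊔ zpowers g`, a `p`-group
  (`IsPGroup.to_sup_of_normal_left`/`_right` with `hVp` and `IsPGroup.of_card`/`zpowers` of order `p`), so the order of `v g`
  is a power of `p`, and it is `1, p` or `q`: it divides `p`.  Then `norm_eq_one`.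
* `pow_eq_one_of_norms MulAut.conjNormal y g₀ q p` with `hy := norm_q_eq_one ...`, `hg j := norm_p_eq_one ...`,
  `hσ := exists_perm y g₀ q p ...`: `v^q = 1` on `V`, contradiction as in S44-SYLQ.  Aux names: prefix `s44normq_`.
-/

set_option autoImplicit false

namespace Cfsg.Agent.Helper9.S44

open scoped IsMulCommutative

variable {G : Type*} [Group G] [Finite G]

omit [Finite G] in
/-- an element of `zpowers y` (`y` of prime order `q`) has order dividing `q` -/
theorem s44normq_orderOf_dvd {q : ℕ} {y x : G} (hy : orderOf y = q) (hx : x ∈ Subgroup.zpowers y) :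
    orderOf x ∣ q := by
  obtain ⟨k, rfl⟩ := Subgroup.mem_zpowers_iff.1 hx
  rw [← hy]
  exact orderOf_dvd_of_pow_eq_one (by rw [← zpow_natCast, ← zpow_mul, mul_comm, zpow_mul,
    zpow_natCast, pow_orderOf_eq_one, one_zpow])

omit [Finite G] in
theorem s44normq_pow_p {p q : ℕ} (hp : p.Prime) (hq : q.Prime) (hpq : p ≠ q) (hord : OrdPQ G p q)
    (V : Subgroup G) [V.Normal] (hVp : IsPGroup p ↥V) (g : G) (hg : orderOf g = p)
    (v : ↥V) : ((v : G) * g) ^ p = 1 := by
  have : Fact p.Prime := ⟨hp⟩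
  have hZ : IsPGroup p ↥(Subgroup.zpowers g) :=
    IsPGroup.of_card (n := 1) (by rw [Nat.card_zpowers, hg, pow_one])
  have hsup : IsPGroup p ↥(V ⊔ Subgroup.zpowers g) := IsPGroup.to_sup_of_normal_left hVp hZ
  have hmem : (v : G) * g ∈ V ⊔ Subgroup.zpowers g :=
    mul_mem (Subgroup.mem_sup_left v.2) (Subgroup.mem_sup_right (Subgroup.mem_zpowers g))
  obtain ⟨k, hk⟩ := hsup ⟨(v : G) * g, hmem⟩
  have hk' : ((v : G) * g) ^ p ^ k = 1 := by
    have := congrArg Subtype.val hk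
    simpa using this
  have hdvd : orderOf ((v : G) * g) ∣ p ^ k := orderOf_dvd_of_pow_eq_one hk'
  apply orderOf_dvd_iff_pow_eq_one.1
  rcases hord ((v : G) * g) with h1 | h1 | h1
  · rw [h1]
    exact one_dvd p
  · rw [h1]
  · exfalso
    rw [h1] at hdvd
    have := hq.dvd_of_dvd_pow hdvd
    exact hpq ((Nat.prime_dvd_prime_iff_eq hq hp).1 this).symm

theorem norm_p_eq_one {p q : ℕ} (hp : p.Prime) (hq : q.Prime) (hpq : p ≠ q) (hord : OrdPQ G p q)
    (V : Subgroup G) [V.Normal] [IsMulCommutative ↥V] (hVp : IsPGroup p ↥V) (g : G) (hg : orderOf g = p)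
    (v : ↥V) : ∏ i ∈ Finset.range p, (MulAut.conjNormal (H := V) (g ^ i)) v = 1 := by
  refine norm_eq_one V v g p ?_ (s44normq_pow_p hp hq hpq hord V hVp g hg v)
  rw [← hg]
  exact pow_orderOf_eq_one g

theorem no_normalizing {p q : ℕ} (hp : p.Prime) (hq : q.Prime) (hpq : p ≠ q) (hord : OrdPQ G p q)
    (V : Subgroup G) [V.Normal] [IsMulCommutative ↥V] (hV : V ≠ ⊥) (hVp : IsPGroup p ↥V)
    (y g₀ : G) (hy : orderOf y = q) (hg : orderOf g₀ = p)
    (hn : g₀ * y * g₀⁻¹ ∈ Subgroup.zpowers y) : False := by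
  have hpnq : ¬ p ∣ q := fun h => hpq ((Nat.prime_dvd_prime_iff_eq hp hq).1 h)
  -- all `g₀ * y ^ j` have order `p`
  have ha : ∀ j : ℕ, orderOf (g₀ * y ^ j) = p := by
    intro j
    rcases hord (g₀ * y ^ j) with h1 | h1 | h1
    · exfalso
      rw [orderOf_eq_one_iff] at h1
      have hg₀ : g₀ = (y ^ j)⁻¹ := eq_inv_of_mul_eq_one_left h1
      have hmem : g₀ ∈ Subgroup.zpowers y := by
        rw [hg₀]
        exact inv_mem (Subgroup.npow_mem_zpowers y j)
      have := s44normq_orderOf_dvd hy hmem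
      rw [hg] at this
      exact hpnq this
    · exact h1
    · exfalso
      obtain ⟨k, hk⟩ := pow_mem_coset y g₀ q hq.pos hy hn j q
      have h1' : (g₀ * y ^ j) ^ q = 1 := by
        rw [← h1]
        exact pow_orderOf_eq_one _
      rw [h1'] at hk
      have hg₀ : g₀ ^ q = (y ^ (k : ℕ))⁻¹ := eq_inv_of_mul_eq_one_left hk.symm
      have hmem : g₀ ^ q ∈ Subgroup.zpowers y := by
        rw [hg₀]
        exact inv_mem (Subgroup.npow_mem_zpowers y _)
      have hcop : (orderOf g₀).Coprime q := by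
        rw [hg]
        exact (Nat.coprime_primes hp hq).2 hpq
      have hord' : orderOf (g₀ ^ q) = p := by
        rw [Nat.Coprime.orderOf_pow hcop, hg]
      have := s44normq_orderOf_dvd hy hmem
      rw [hord'] at this
      exact hpnq this
  -- the norm computation
  have hvq : ∀ v : ↥V, v ^ q = 1 :=
    pow_eq_one_of_norms (MulAut.conjNormal (H := V)) y g₀ q p hp.pos
      (fun v => norm_q_eq_one hp hq hpq hord V hVp y hy v)
      (fun j v => norm_p_eq_one hp hq hpq hord V hVp (g₀ * y ^ (j : ℕ)) (ha j) v)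
      (fun i hi0 hir => exists_perm y g₀ q p hq.pos hy hp hn (fun j => ha j) i hi0 hir)
  obtain ⟨v, hv1⟩ := (Subgroup.ne_bot_iff_exists_ne_one).1 hV
  obtain ⟨k, hk⟩ := hVp v
  have h1 : orderOf v ∣ q := orderOf_dvd_of_pow_eq_one (hvq v)
  have h2 : orderOf v ∣ p ^ k := orderOf_dvd_of_pow_eq_one hk
  rcases (Nat.dvd_prime hq).1 h1 with h3 | h3
  · exact hv1 (orderOf_eq_one_iff.1 h3)
  · rw [h3] at h2
    have := hq.dvd_of_dvd_pow h2
    exact hpq ((Nat.prime_dvd_prime_iff_eq hq hp).1 this).symm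

end Cfsg.Agent.Helper9.S44
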