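import Mathlib
import Cfsg.Prelude.Def_Solvable
import Cfsg.Agent.Lib.S44.S44Defs
import Cfsg.Agent.Lib.S44.S44SylQ
import Cfsg.Agent.Lib.S44.S44NormQ
import Cfsg.Agent.Lib.Helper23.S4330Plumb

/-!
# PIECE S44-COMPL (row S4004): a Frobenius complement of prime order  (MEDIUM, group-theoretic assembly)

`exists_complement`: take `y` of order `q` (Cauchy, `exists_prime_orderOf_dvd_card'`), `C = zpowers y`,
`Nat.card C = q` (`Nat.card_zpowers`), prime.  `C ≠ ⊥` (`y ≠ 1`), `C ≠ ⊤` (else `Nat.card G = q`, but `p ∣ Nat.card G`).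
For `g ∉ C` show `C ⊓ MulAut.conj g • C = ⊥`: otherwise the intersection is a nontrivial subgroup of `C`, whose order
divides the prime `q`, so it is `C` (`Subgroup.eq_of_le_of_card_ge`), i.e. `C ≤ MulAut.conj g • C`; cardinalities agree
(`Subgroup.card_smul`/`Subgroup.smul...`), so `MulAut.conj g • C = C`, in particular `g * y * g⁻¹ ∈ C`
(`Subgroup.mem_smul_pointwise_iff_exists`/`Subgroup.smul_mem_pointwise_smul`, `MulAut.smul_def`, `MulAut.conj_apply`).
Let `N = normalizer C` (or just the subgroup `closure {g} ⊔ C`; simplest: `L := zpowers g ⊔ C`, hmm — use `N`).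
`g ∈ N`, `g ∉ C`, so `Nat.card C < Nat.card N`, `Nat.card N = q * t` with `t > 1` (`Subgroup.card_dvd_of_le`); a prime
`s ∣ t` divides `Nat.card G`, so `s = p` or `s = q` (`honly`).  `s = q`: `q^2 ∣ Nat.card N ∣ Nat.card G` contradicts
`not_sq_dvd`.  `s = p`: Cauchy in `N` gives `g₀ ∈ N` of order `p`; `g₀ * y * g₀⁻¹ ∈ C` (`Subgroup.mem_normalizer_iff`);
`no_normalizing` gives `False`.
`exists_complement'`: from solvability: `Cfsg.Agent.Helper23.S4330Plumb.exists_normal_abelian_rgroup G` (already imported) gives `r` prime, `N₀` normal `≠ ⊥`, `IsPGroup r N₀`, commutative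
(`IsMulCommutative` from `⟨⟨fun a b => Subtype.ext (h a a.2 b b.2)⟩⟩`); `r ∣ Nat.card G` (Cauchy/`Subgroup.card_dvd_of_le`,
`N₀ ≠ ⊥` is a nontrivial `r`-group), so `r = p` or `r = q`; apply `exists_complement` directly or with `p, q` swapped
(`hord.symm`).  `Nontrivial G` since `p ∣ Nat.card G`.  Aux names: prefix `s44compl_`.
-/

set_option autoImplicit false

namespace Cfsg.Agent.Helper9.S44

open scoped IsMulCommutative Pointwise

variable {G : Type*} [Group G] [Finite G]

theorem exists_complement {p q : ℕ} (hp : p.Prime) (hq : q.Prime) (hpq : p ≠ q) (hord : OrdPQ G p q)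
    (hpN : p ∣ Nat.card G) (hqN : q ∣ Nat.card G)
    (honly : ∀ r : ℕ, r.Prime → r ∣ Nat.card G → r = p ∨ r = q)
    (V : Subgroup G) [V.Normal] [IsMulCommutative ↥V] (hV : V ≠ ⊥) (hVp : IsPGroup p ↥V) :
    ∃ C : Subgroup G, Cfsg.IsFrobeniusComplement C ∧ (Nat.card ↥C).Prime := by
  have : Fact q.Prime := ⟨hq⟩
  have : Fact p.Prime := ⟨hp⟩
  obtain ⟨y, hy⟩ := exists_prime_orderOf_dvd_card' (G := G) q hqN
  have hcardC : Nat.card (Subgroup.zpowers y) = q := by rw [Nat.card_zpowers, hy]
  have hy1 : y ≠ 1 := by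
    intro h
    rw [h, orderOf_one] at hy
    exact hq.one_lt.ne hy
  have hyC : y ∈ Subgroup.zpowers y := Subgroup.mem_zpowers y
  refine ⟨Subgroup.zpowers y, ⟨?_, ?_, ?_⟩, by rw [hcardC]; exact hq⟩
  · intro h
    rw [h, Subgroup.mem_bot] at hyC
    exact hy1 hyC
  · intro h
    rw [h, Subgroup.card_top] at hcardC
    rw [hcardC] at hpN
    exact hpq ((Nat.prime_dvd_prime_iff_eq hp hq).1 hpN)
  · intro g hg
    by_contra hI
    set C := Subgroup.zpowers y with hC
    -- the intersection is all of C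
    have hIle : C ⊓ (MulAut.conj g • C) ≤ C := inf_le_left
    have hIcard : Nat.card ↥(C ⊓ (MulAut.conj g • C)) = q := by
      have hdvd : Nat.card ↥(C ⊓ (MulAut.conj g • C)) ∣ q := by
        rw [← hcardC]
        exact Subgroup.card_dvd_of_le hIle
      rcases (Nat.dvd_prime hq).1 hdvd with h1 | h1
      · exact absurd (Subgroup.card_eq_one.1 h1) hI
      · exact h1
    have hIeq : C ⊓ (MulAut.conj g • C) = C :=
      Subgroup.eq_of_le_of_card_ge hIle (by rw [hIcard, hcardC])
    have hCle : C ≤ MulAut.conj g • C := by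
      intro x hx
      have hx' : x ∈ C ⊓ (MulAut.conj g • C) := by
        rw [hIeq]
        exact hx
      exact hx'.2
    have hcardgC : Nat.card ↥(MulAut.conj g • C) = q := by
      rw [← Nat.card_congr (Subgroup.equivSMul (MulAut.conj g) C).toEquiv, hcardC]
    have hCeq : C = MulAut.conj g • C :=
      Subgroup.eq_of_le_of_card_ge hCle (by rw [hcardgC, hcardC])
    -- g normalizes C
    have hgN : g ∈ Subgroup.normalizer (C : Set G) := by
      rw [Subgroup.mem_normalizer_iff]
      intro h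
      have e : g * h * g⁻¹ = MulAut.conj g • h := by
        rw [MulAut.smul_def, MulAut.conj_apply]
      rw [e]
      constructor
      · intro hh
        rw [hCeq]
        exact Subgroup.smul_mem_pointwise_smul _ _ _ hh
      · intro hh
        rw [hCeq] at hh
        exact (Subgroup.smul_mem_pointwise_smul_iff).1 hh
    set N := Subgroup.normalizer (C : Set G) with hN
    have hCN : C ≤ N := Subgroup.le_normalizer
    have hCNne : Nat.card ↥N ≠ Nat.card ↥C := by
      intro h
      have : C = N := Subgroup.eq_of_le_of_card_ge hCN (by rw [h])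
      rw [← this] at hgN
      exact hg hgN
    obtain ⟨t, ht⟩ := Subgroup.card_dvd_of_le hCN
    rw [hcardC] at ht hCNne
    have hNpos : 0 < Nat.card ↥N := Nat.card_pos
    have ht1 : t ≠ 1 := by
      intro h
      rw [h, mul_one] at ht
      exact hCNne ht
    obtain ⟨s, hs, hst⟩ := Nat.exists_prime_and_dvd ht1
    have hNG : Nat.card ↥N ∣ Nat.card G := Subgroup.card_subgroup_dvd_card N
    have hsN : s ∣ Nat.card ↥N := by
      rw [ht]
      exact dvd_mul_of_dvd_right hst q
    rcases honly s hs (dvd_trans hsN hNG) with rfl | rfl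
    · -- an element of order p in the normalizer
      have : Fact s.Prime := ⟨hs⟩
      obtain ⟨g₀, hg₀⟩ := exists_prime_orderOf_dvd_card' (G := ↥N) s hsN
      have hg₀' : orderOf (g₀ : G) = s := by rw [Subgroup.orderOf_coe, hg₀]
      have hn : (g₀ : G) * y * (g₀ : G)⁻¹ ∈ Subgroup.zpowers y :=
        (Subgroup.mem_normalizer_iff.1 g₀.2 y).1 hyC
      exact no_normalizing hp hq hpq hord V hV hVp y (g₀ : G) hy hg₀' hn
    · -- q ^ 2 divides the order
      apply not_sq_dvd hp hq hpq hord V hV hVp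
      refine dvd_trans ?_ hNG
      rw [ht, pow_two]
      exact mul_dvd_mul_left s hst

theorem exists_complement' {p q : ℕ} (hp : p.Prime) (hq : q.Prime) (hpq : p ≠ q) (hord : OrdPQ G p q)
    (hpN : p ∣ Nat.card G) (hqN : q ∣ Nat.card G)
    (honly : ∀ r : ℕ, r.Prime → r ∣ Nat.card G → r = p ∨ r = q) [Group.IsSolvable G] :
    ∃ C : Subgroup G, Cfsg.IsFrobeniusComplement C ∧ (Nat.card ↥C).Prime := by
  have : Nontrivial G := by
    rw [← Finite.one_lt_card_iff_nontrivial]
    have h1 := Nat.le_of_dvd Nat.card_pos hpN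
    have h2 := hp.two_le
    omega
  obtain ⟨r, hr, N₀, hN₀n, hN₀0, hN₀p, hcomm⟩ :=
    Cfsg.Agent.Helper23.S4330Plumb.exists_normal_abelian_rgroup G
  have := hN₀n
  have : IsMulCommutative ↥N₀ := ⟨⟨fun a b => Subtype.ext (hcomm a a.2 b b.2)⟩⟩
  have hrN : r ∣ Nat.card G := by
    have : Fact r.Prime := ⟨hr⟩
    obtain ⟨k, hk⟩ := IsPGroup.iff_card.1 hN₀p
    have hk0 : k ≠ 0 := by
      intro h
      rw [h, pow_zero] at hk
      exact hN₀0 (Subgroup.card_eq_one.1 hk)
    refine dvd_trans ?_ (Subgroup.card_subgroup_dvd_card N₀)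
    rw [hk]
    exact dvd_pow_self r hk0
  rcases honly r hr hrN with rfl | rfl
  · exact exists_complement hp hq hpq hord hpN hqN honly N₀ hN₀0 hN₀p
  · exact exists_complement hq hp (fun e => hpq e.symm) hord.symm hqN hpN
      (fun s hs hsN => (honly s hs hsN).symm) N₀ hN₀0 hN₀p

end Cfsg.Agent.Helper9.S44
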