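import Mathlib
import Cfsg.Agent.Lib.S44.S44Defs

/-!
# PIECE S44-FIX (row S4004): a fixed point of `⟨x⟩` acting by conjugation on the elements of order `k`  (MEDIUM)

RECIPE.  Let `H = Subgroup.zpowers x`, of order `r` (`Nat.card_zpowers`), so `IsPGroup r H` (`IsPGroup.of_card` with
exponent `1`).  `H` acts on `α = {z : G // orderOf z = k}` by conjugation: define the `MulAction H α` instance locally,
`g • z = ⟨g * z * g⁻¹, _⟩` (order preserved: `orderOf_conj`?/`MulAut.conj`/`(MulAut.conj g).toMonoidHom` injective: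
`orderOf_injective`; or via `IsConj.orderOf_eq`), `one_smul`, `mul_smul` by `Subtype.ext` + `group`.
`IsPGroup.card_modEq_card_fixedPoints` : `Nat.card α ≡ Nat.card (MulAction.fixedPoints H α) [MOD r]`.
If the fixed point set were empty its card is `0` and `r ∣ Nat.card α = ordCnt G k`, contradiction.  A fixed point `z`
satisfies `x * z * x⁻¹ = z` (apply to `⟨x, mem_zpowers x⟩`), i.e. `Commute x z`.  Aux names: prefix `s44fix_`.
-/

set_option autoImplicit false

namespace Cfsg.Agent.Helper9.S44

open Cfsg.Agent.Helper20 (ordCnt)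

variable {G : Type*} [Group G] [Finite G]

/-- conjugation action of a subgroup on the elements of a given order -/
@[reducible] noncomputable def s44fix_act (H : Subgroup G) (k : ℕ) : MulAction H {z : G // orderOf z = k} where
  smul g z := ⟨(g : G) * z.1 * (g : G)⁻¹, by
    have h1 : orderOf ((g : G) * z.1 * (g : G)⁻¹) = orderOf z.1 := by
      have := (isConj_iff.2 ⟨(g : G), rfl⟩ : IsConj z.1 ((g : G) * z.1 * (g : G)⁻¹))
      exact (orderOf_eq_orderOf_iff.2 (fun n => by
        rw [conj_pow]
        constructor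
        · intro h; have := congrArg (fun t => (g : G)⁻¹ * t * (g : G)) h; simpa [mul_assoc] using this
        · intro h; rw [h]; simp))
    rw [h1]; exact z.2⟩
  one_smul z := by
    apply Subtype.ext
    show ((1 : H) : G) * z.1 * ((1 : H) : G)⁻¹ = z.1
    simp
  mul_smul a b z := by
    apply Subtype.ext
    show ((a * b : H) : G) * z.1 * ((a * b : H) : G)⁻¹ = (a : G) * ((b : G) * z.1 * (b : G)⁻¹) * (a : G)⁻¹
    simp [mul_assoc]

theorem exists_commute_of_not_dvd {r : ℕ} (hr : r.Prime) (k : ℕ) (x : G) (hx : orderOf x = r)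
    (hnd : ¬ r ∣ ordCnt G k) : ∃ z : G, orderOf z = k ∧ Commute x z := by
  classical
  haveI : Fact r.Prime := ⟨hr⟩
  let H : Subgroup G := Subgroup.zpowers x
  have hcard : Nat.card H = r := by rw [Nat.card_zpowers, hx]
  have hP : IsPGroup r H := IsPGroup.of_card (n := 1) (by rw [hcard, pow_one])
  letI : MulAction H {z : G // orderOf z = k} := s44fix_act H k
  haveI : Finite {z : G // orderOf z = k} := inferInstance
  have hmod := hP.card_modEq_card_fixedPoints {z : G // orderOf z = k}
  by_cases hne : (MulAction.fixedPoints H {z : G // orderOf z = k}).Nonempty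
  · obtain ⟨z, hz⟩ := hne
    refine ⟨z.1, z.2, ?_⟩
    have h1 := hz ⟨x, Subgroup.mem_zpowers x⟩
    have h2 : x * z.1 * x⁻¹ = z.1 := congrArg Subtype.val h1
    show x * z.1 = z.1 * x
    calc x * z.1 = x * z.1 * x⁻¹ * x := by group
      _ = z.1 * x := by rw [h2]
  · exfalso
    rw [Set.not_nonempty_iff_eq_empty] at hne
    apply hnd
    have h0 : Nat.card (MulAction.fixedPoints H {z : G // orderOf z = k}) = 0 := by
      rw [hne]; simp
    rw [h0] at hmod
    exact (Nat.modEq_zero_iff_dvd.1 hmod)

end Cfsg.Agent.Helper9.S44
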