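import Mathlib
import Cfsg.Agent.Lib.S44.S44Defs

/-!
# PIECE S44-PAIR (row S4004; done by helper15): commuting pairs inject into the elements of order `p q`  (MEDIUM)

RECIPE.  `pair_injective`: from `x * y = x' * y'` (commuting pairs, orders `p, q, p, q`): raise to the `q`-th power:
`(x * y) ^ q = x ^ q * y ^ q = x ^ q` (`Commute.mul_pow`, `pow_orderOf_eq_one`), so `x ^ q = x' ^ q`; `q` is coprime to
`p = orderOf x`, so there is `u` with `q * u ≡ 1 [MOD p]` (`Nat.exists_mul_emod_eq_one_of_coprime` or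
`Nat.Coprime`/`ZMod` inverse) and `x = (x ^ q) ^ u` (`pow_mul`, `pow_mod_orderOf`/`pow_eq_pow_mod`); hence `x = x'`, then
`y = y'` by `mul_left_cancel`.
`orderOf_mul_pq`: `Commute.orderOf_mul_eq_mul_orderOf_of_coprime`.
`pq_count_ge`: choose `f x` of order `q` commuting with `x` (`Classical.choose`).  The map
`{x // orderOf x = p} × Fin (q - 1) → {z // orderOf z = p * q}`, `(x, k) ↦ x * (f x) ^ (k + 1)` is well defined
(`(f x)^(k+1)` has order `q` since `0 < k + 1 < q`: `orderOf_pow_of_coprime`/`Nat.Coprime` of `k+1` and the prime `q`; it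
commutes with `x`) and injective (`pair_injective`, then `pow_injOn_Iio_orderOf` for `k`).  Conclude with
`Nat.card_le_card_of_injective`, `Nat.card_prod`, `Nat.card_fin` (`ordCnt G k` is `Nat.card {g // orderOf g = k}` by
`rfl`; note the order of the factors: `(q - 1) * ordCnt G p`).  Aux names: prefix `s44pair_`.
-/

set_option autoImplicit false

namespace Cfsg.Agent.Helper9.S44

open Cfsg.Agent.Helper20 (ordCnt)

variable {G : Type*} [Group G] [Finite G]

omit [Finite G] in
/-- extracting a `q`-th root in a cyclic group of order `p` coprime to `q` -/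
theorem s44pair_root {p q : ℕ} (hcop : Nat.Coprime q p) (hp1 : 1 < p) {x x' : G}
    (hx : orderOf x = p) (hx' : orderOf x' = p) (h : x ^ q = x' ^ q) : x = x' := by
  obtain ⟨u, -, hu⟩ := Nat.exists_mul_mod_eq_one_of_coprime hcop hp1
  have h1 : ∀ z : G, orderOf z = p → z = (z ^ q) ^ u := by
    intro z hz
    rw [← pow_mul, ← pow_mod_orderOf, hz, hu, pow_one]
  rw [h1 x hx, h1 x' hx', h]

omit [Finite G] in
theorem pair_injective {p q : ℕ} (hp : p.Prime) (hq : q.Prime) (hpq : p ≠ q) {x y x' y' : G}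
    (hx : orderOf x = p) (hy : orderOf y = q) (hx' : orderOf x' = p) (hy' : orderOf y' = q)
    (hc : Commute x y) (hc' : Commute x' y') (h : x * y = x' * y') : x = x' ∧ y = y' := by
  have hcop : Nat.Coprime q p := (Nat.coprime_primes hq hp).2 (Ne.symm hpq)
  have h1 : x ^ q = x' ^ q := by
    have h2 := congrArg (· ^ q) h
    simp only [hc.mul_pow, hc'.mul_pow] at h2
    rwa [← hy, pow_orderOf_eq_one, mul_one, hy, ← hy', pow_orderOf_eq_one, mul_one, hy'] at h2
  have hxx : x = x' := s44pair_root hcop hp.one_lt hx hx' h1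
  refine ⟨hxx, ?_⟩
  rw [hxx] at h
  exact mul_left_cancel h

omit [Finite G] in
theorem orderOf_mul_pq {p q : ℕ} (hp : p.Prime) (hq : q.Prime) (hpq : p ≠ q) {x y : G}
    (hx : orderOf x = p) (hy : orderOf y = q) (hc : Commute x y) : orderOf (x * y) = p * q := by
  rw [hc.orderOf_mul_eq_mul_orderOf_of_coprime (by rw [hx, hy]; exact (Nat.coprime_primes hp hq).2 hpq),
    hx, hy]

theorem pq_count_ge {p q : ℕ} (hp : p.Prime) (hq : q.Prime) (hpq : p ≠ q)
    (h : ∀ x : G, orderOf x = p → ∃ y : G, orderOf y = q ∧ Commute x y) :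
    (q - 1) * ordCnt G p ≤ ordCnt G (p * q) := by
  choose f hf using h
  have hq2 := hq.two_le
  -- the powers `(f x)^(k+1)`, `k < q - 1`, have order `q`
  have hord : ∀ (x : {x : G // orderOf x = p}) (k : Fin (q - 1)),
      orderOf ((f x.1 x.2) ^ (k.val + 1)) = q := by
    intro x k
    have hk := k.isLt
    have hcop : Nat.Coprime (orderOf (f x.1 x.2)) (k.val + 1) := by
      rw [(hf x.1 x.2).1]
      exact (Nat.Prime.coprime_iff_not_dvd hq).2
        (Nat.not_dvd_of_pos_of_lt (Nat.succ_pos _) (by omega))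
    rw [hcop.orderOf_pow, (hf x.1 x.2).1]
  have hcomm : ∀ (x : {x : G // orderOf x = p}) (k : Fin (q - 1)),
      Commute x.1 ((f x.1 x.2) ^ (k.val + 1)) := fun x k => (hf x.1 x.2).2.pow_right _
  let φ : {x : G // orderOf x = p} × Fin (q - 1) → {z : G // orderOf z = p * q} := fun a =>
    ⟨a.1.1 * (f a.1.1 a.1.2) ^ (a.2.val + 1),
      orderOf_mul_pq hp hq hpq a.1.2 (hord a.1 a.2) (hcomm a.1 a.2)⟩
  have hinj : Function.Injective φ := by
    rintro ⟨x, k⟩ ⟨x', k'⟩ hxx
    have h1 : x.1 * (f x.1 x.2) ^ (k.val + 1) = x'.1 * (f x'.1 x'.2) ^ (k'.val + 1) :=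
      congrArg Subtype.val hxx
    obtain ⟨h2, h3⟩ := pair_injective hp hq hpq x.2 (hord x k) x'.2 (hord x' k') (hcomm x k)
      (hcomm x' k') h1
    have hx : x = x' := Subtype.ext h2
    subst hx
    have h4 : k.val + 1 = k'.val + 1 := by
      apply pow_injOn_Iio_orderOf (x := f x.1 x.2)
      · rw [Set.mem_Iio, (hf x.1 x.2).1]
        have := k.isLt
        omega
      · rw [Set.mem_Iio, (hf x.1 x.2).1]
        have := k'.isLt
        omega
      · exact h3
    have hk : k = k' := Fin.ext (by omega)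
    rw [hk]
  have hle := Nat.card_le_card_of_injective φ hinj
  rw [Nat.card_prod, Nat.card_eq_fintype_card (α := Fin (q - 1)), Fintype.card_fin, mul_comm] at hle
  exact hle

end Cfsg.Agent.Helper9.S44
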