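import Mathlib
import Cfsg.Agent.Lib.S44.S44Defs
import Cfsg.Agent.Lib.S44.S44Pair
import Cfsg.Agent.Lib.S44.S44Fix
import Cfsg.Agent.Lib.SOT.SOTDefs
import Cfsg.Agent.Lib.SOT.SOTDiv

/-!
# PIECE S44-NOPQ (row S4004): no element of order `p q`  (MEDIUM, arithmetic + two citations)

Write `s = ordCnt G`, `s 1 = 1` (`ordCnt_one`), `s p = m`, `s q = n`.
Frobenius: `frobenius_dvd_sum p h.hpN` with `Nat.Prime.sum_divisors`: `p ∣ 1 + m`; same `q ∣ 1 + n`;
`frobenius_dvd_sum (p*q)` (`p * q ∣ Nat.card G` by `Nat.Coprime.mul_dvd_of_dvd_of_dvd`) with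
`Cfsg.Agent.Lead.SOT.sum_div_pq`: `p * q ∣ 1 + m + n + s (p*q)`.
`no_pq_aux` (the case `s (p*q) = m`): `p ∣ 1 + m + n + m` and `p ∣ 1 + m` give `p ∣ n + m`, hence NOT `p ∣ n`
(else `p ∣ m`, `p ∣ 1`).  So `exists_commute_of_not_dvd h.hp q x hx (by rwa [h.sq])` for every `x` of order `p`, and
`pq_count_ge` gives `(q - 1) * m ≤ s (p*q) = m` with `m ≠ 0` (`ordCnt_pos_iff` + Cauchy
`exists_prime_orderOf_dvd_card'`) and `q ≥ 3`: contradiction (`nlinarith`/`Nat.le_of_mul_le_mul_right`).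
`no_pq`: `p * q ≥ 3`, so `h.vals` gives `0`, `m` or `n`; `m`: `no_pq_aux h`; `n`: `no_pq_aux h.symm` after
`Nat.mul_comm`.  Aux names: prefix `s44nopq_`.
-/

set_option autoImplicit false

namespace Cfsg.Agent.Helper9.S44

open Cfsg.Agent.Helper20 (ordCnt)

variable {G : Type*} [Group G] [Finite G]

theorem frob_p {p q m n : ℕ} (h : TwoP G p q m n) : p ∣ 1 + m := by
  have h1 := Cfsg.Agent.Helper20.frobenius_dvd_sum (G := G) p h.hpN
  rw [Nat.Prime.sum_divisors h.hp, Cfsg.Agent.Helper20.ordCnt_one, h.sp, add_comm] at h1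
  exact h1

theorem m_pos {p q m n : ℕ} (h : TwoP G p q m n) : 0 < m := by
  have : Fact p.Prime := ⟨h.hp⟩
  obtain ⟨g, hg⟩ := exists_prime_orderOf_dvd_card' p h.hpN
  have := (Cfsg.Agent.Helper20.ordCnt_pos_iff (G := G) p).2 ⟨g, hg⟩
  rwa [h.sp] at this

/-- Frobenius at `p q`. -/
theorem s44nopq_frob_pq {p q m n : ℕ} (h : TwoP G p q m n) :
    p * q ∣ 1 + m + n + ordCnt G (p * q) := by
  have hcop : Nat.Coprime p q := (Nat.coprime_primes h.hp h.hq).2 h.hpq
  have hd : p * q ∣ Nat.card G := Nat.Coprime.mul_dvd_of_dvd_of_dvd hcop h.hpN h.hqN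
  have h1 := Cfsg.Agent.Helper20.frobenius_dvd_sum (G := G) (p * q) hd
  rw [Cfsg.Agent.Lead.SOT.sum_div_pq (ordCnt G) h.hp h.hq h.hpq,
    Cfsg.Agent.Helper20.ordCnt_one, h.sp, h.sq] at h1
  exact h1

theorem no_pq_aux {p q m n : ℕ} (h : TwoP G p q m n) : ordCnt G (p * q) ≠ m := by
  intro hm
  have hpm : p ∣ 1 + m := frob_p h
  have hpq := s44nopq_frob_pq h
  rw [hm] at hpq
  have hp1 : p ∣ 1 + m + n + m := (Dvd.intro _ rfl).trans hpq
  -- p ∣ n + m
  have hnm : p ∣ n + m := by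
    have : 1 + m + n + m = (1 + m) + (n + m) := by ring
    rw [this] at hp1
    exact (Nat.dvd_add_right hpm).1 hp1
  have hnd : ¬ p ∣ n := by
    intro hn
    have hpm' : p ∣ m := (Nat.dvd_add_right hn).1 hnm
    have : p ∣ 1 := (Nat.dvd_add_left hpm').1 hpm
    exact h.hp.one_lt.ne' (Nat.dvd_one.1 this)
  have hex : ∀ x : G, orderOf x = p → ∃ y : G, orderOf y = q ∧ Commute x y := by
    intro x hx
    exact exists_commute_of_not_dvd h.hp q x hx (by rwa [h.sq])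
  have hge := pq_count_ge (G := G) h.hp h.hq h.hpq hex
  rw [hm, h.sp] at hge
  have hmpos := m_pos h
  have hq3 : 3 ≤ q := by
    have := h.hq.two_le
    have := h.hq2
    omega
  have : 2 * m ≤ (q - 1) * m := Nat.mul_le_mul_right m (by omega)
  omega

theorem no_pq {p q m n : ℕ} (h : TwoP G p q m n) : ordCnt G (p * q) = 0 := by
  have h3 : 3 ≤ p * q := by
    have h2p := h.hp.two_le
    have h2q := h.hq.two_le
    nlinarith
  rcases h.vals (p * q) h3 with h0 | h0 | h0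
  · exact h0
  · exact absurd h0 (no_pq_aux h)
  · exfalso
    have := no_pq_aux h.symm
    rw [Nat.mul_comm] at this
    exact this h0

end Cfsg.Agent.Helper9.S44
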