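import Mathlib
import Cfsg.Agent.Lib.S44.S44Defs
import Cfsg.Agent.Lib.S44.S44Pair
import Cfsg.Agent.Lib.S44.S44Fix
import Cfsg.Agent.Lib.S44.S44NoPQ
import Cfsg.Agent.Lib.SOT.SOTDefs
import Cfsg.Agent.Lib.SOT.SOTDiv

/-!
# PIECE S44-EXP (row S4004): no element of order `p²`  (MEDIUM)

`no_sq_aux`: suppose `ordCnt G (p^2) ≠ 0`; an element of order `p^2` gives `p^2 ∣ Nat.card G` (`orderOf_dvd_natCard`),
so Frobenius (`frobenius_dvd_sum (p^2)`, `Cfsg.Agent.Lead.SOT.sum_div_psq`): `p^2 ∣ 1 + m + s (p^2)`; `p^2 ≥ 3` so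
`s (p^2) ∈ {m, n}` (`h.vals`).
* `s (p^2) = m`: `p ∣ 1 + m + m` and `p ∣ 1 + m` (`frob_p h`) give `p ∣ m`, then `p ∣ 1`: contradiction.
* `s (p^2) = n`: take `y` of order `q` (Cauchy).  If NOT `q ∣ n`... but `q ∣ 1 + n` (`frob_p h.symm`) shows `¬ q ∣ n`, so
  `exists_commute_of_not_dvd h.hq (p^2) y hy` gives `z` of order `p^2` commuting with `y`; then `z ^ p` has order `p`
  (`orderOf_pow_of_dvd`) and commutes with `y`, so `z ^ p * y` has order `p * q` (`orderOf_mul_pq`), contradicting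
  `no_pq h` (`ordCnt_pos_iff`).
`no_sq`: both primes, second from `h.symm`.  Aux names: prefix `s44exp_`.
-/

set_option autoImplicit false

namespace Cfsg.Agent.Helper9.S44

open Cfsg.Agent.Helper20 (ordCnt)

variable {G : Type*} [Group G] [Finite G]

theorem no_sq_aux {p q m n : ℕ} (h : TwoP G p q m n) : ordCnt G (p ^ 2) = 0 := by
  by_contra hne
  have hpos : 0 < ordCnt G (p ^ 2) := Nat.pos_of_ne_zero hne
  obtain ⟨g, hg⟩ := (Cfsg.Agent.Helper20.ordCnt_pos_iff (p ^ 2)).mp hpos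
  have hdvd : p ^ 2 ∣ Nat.card G := by
    rw [← hg]
    exact orderOf_dvd_natCard g
  have hf := Cfsg.Agent.Helper20.frobenius_dvd_sum (G := G) (p ^ 2) hdvd
  rw [Cfsg.Agent.Lead.SOT.sum_div_psq (ordCnt G) h.hp, Cfsg.Agent.Helper20.ordCnt_one, h.sp] at hf
  have hpm : p ∣ 1 + m := frob_p h
  have hp1 : ¬ p ∣ 1 := fun h1 => h.hp.one_lt.ne' (Nat.dvd_one.mp h1)
  have hpd : p ∣ 1 + m + ordCnt G (p ^ 2) := dvd_trans (dvd_pow_self p (by norm_num)) hf
  have h3 : 3 ≤ p ^ 2 := by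
    have := h.hp.two_le
    nlinarith
  rcases h.vals (p ^ 2) h3 with h0 | h0 | h0
  · exact hne h0
  · rw [h0] at hpd
    have hpm' : p ∣ m := (Nat.dvd_add_right hpm).mp hpd
    have hm1 : p ∣ m + 1 := by rwa [add_comm] at hpm
    exact hp1 ((Nat.dvd_add_right hpm').mp hm1)
  · have hqn : q ∣ 1 + n := frob_p h.symm
    have hq1 : ¬ q ∣ 1 := fun h1 => h.hq.one_lt.ne' (Nat.dvd_one.mp h1)
    have hnq : ¬ q ∣ n := by
      intro hd
      have hqn' : q ∣ n + 1 := by rwa [add_comm] at hqn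
      exact hq1 ((Nat.dvd_add_right hd).mp hqn')
    have hqf : Fact q.Prime := ⟨h.hq⟩
    obtain ⟨y, hy⟩ := exists_prime_orderOf_dvd_card' q h.hqN
    obtain ⟨z, hz, hc⟩ := exists_commute_of_not_dvd h.hq (p ^ 2) y hy (by rw [h0]; exact hnq)
    have hzp : orderOf (z ^ p) = p := by
      rw [orderOf_pow_of_dvd h.hp.ne_zero (by rw [hz]; exact dvd_pow_self p (by norm_num)), hz,
        pow_two, Nat.mul_div_cancel _ h.hp.pos]
    have hc' : Commute (z ^ p) y := (hc.pow_right p).symm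
    have hord := orderOf_mul_pq h.hp h.hq h.hpq hzp hy hc'
    have hnopq := no_pq h
    have hpos' : 0 < ordCnt G (p * q) := (Cfsg.Agent.Helper20.ordCnt_pos_iff _).mpr ⟨_, hord⟩
    omega

theorem no_sq {p q m n : ℕ} (h : TwoP G p q m n) : ordCnt G (p ^ 2) = 0 ∧ ordCnt G (q ^ 2) = 0 := by
  exact ⟨no_sq_aux h, no_sq_aux h.symm⟩

end Cfsg.Agent.Helper9.S44
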