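import Mathlib
import Cfsg.Agent.Lib.S44.S44Defs
import Cfsg.Agent.Lib.S44.S44NoPQ
import Cfsg.Agent.Lib.S44.S44Exp
import Cfsg.Agent.Lib.SOT.SOTGrpA

/-!
# PIECE S44-ORD (row S4004): all element orders are `1, p, q`; the Sylow subgroups have prime exponent  (MEDIUM)

`arith_pq`: a number `k ≠ 0` all of whose prime divisors are `p` or `q`, with `¬ p^2 ∣ k`, `¬ q^2 ∣ k`, `¬ p*q ∣ k`, is
`1`, `p` or `q`.  (If `k ≠ 1` take a prime divisor `r` of `k`, `r = p` say, `k = p * c`; if `c ≠ 1` a prime divisor of `c`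
is `p` or `q`, giving `p^2 ∣ k` or `p*q ∣ k`.)
`ordPQ_of_twoP`: for `g : G`, `k = orderOf g` divides `Nat.card G`, so its prime divisors are `p` or `q` (`h.only`);
if `d ∣ k` then `ordCnt G d ≠ 0` (`Cfsg.Agent.Lead.SOT.ordCnt_down` from `ordCnt G k ≠ 0`, `ordCnt_pos_iff`), so `d` is none
of `p^2, q^2, p*q` (`no_sq`, `no_pq`).
`exponent_sylow`: every `x ∈ P` has order a power of `r` (`P.2`, `IsPGroup.iff_orderOf`) and order in `{1, p, q}`, so
`x ^ r = 1` (case `r = p`: order `1` or `p` [`q = p^k` impossible]; same for `r = q`); hence `Monoid.exponent P ∣ r`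
(`Monoid.exponent_dvd_of_forall_pow_eq_one`); `P ≠ ⊥` since `r ∣ Nat.card G` (`Sylow.ne_bot_of_dvd_card`), so the
exponent is not `1` (`Monoid.exp_eq_one_iff`/`Monoid.exponent_eq_one_iff`: trivial group), hence `= r`
(`Nat.Prime.eq_one_or_self_of_dvd`).  Aux names: prefix `s44ord_`.
-/

set_option autoImplicit false

namespace Cfsg.Agent.Helper9.S44

open Cfsg.Agent.Helper20 (ordCnt)

variable {G : Type*} [Group G] [Finite G]

theorem arith_pq {p q k : ℕ} (hp : p.Prime) (hq : q.Prime) (hk : k ≠ 0)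
    (honly : ∀ r : ℕ, r.Prime → r ∣ k → r = p ∨ r = q) (h1 : ¬ p ^ 2 ∣ k) (h2 : ¬ q ^ 2 ∣ k)
    (h3 : ¬ p * q ∣ k) : k = 1 ∨ k = p ∨ k = q := by
  by_cases hk1 : k = 1
  · exact Or.inl hk1
  right
  obtain ⟨r, hr, hrk⟩ := Nat.exists_prime_and_dvd hk1
  obtain ⟨c, rfl⟩ := hrk
  have hc1 : c = 1 := by
    by_contra hc1
    obtain ⟨s, hs, hsc⟩ := Nat.exists_prime_and_dvd hc1
    have hrs : r * s ∣ r * c := Nat.mul_dvd_mul_left r hsc
    have hr' := honly r hr (Dvd.intro c rfl)
    have hs' := honly s hs (dvd_trans hsc (Dvd.intro_left r rfl))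
    rcases hr' with rfl | rfl <;> rcases hs' with rfl | rfl
    · exact h1 (by rw [pow_two]; exact hrs)
    · exact h3 hrs
    · exact h3 (by rw [Nat.mul_comm]; exact hrs)
    · exact h2 (by rw [pow_two]; exact hrs)
  subst hc1
  rw [Nat.mul_one] at honly ⊢
  exact honly r hr (dvd_refl r)

theorem ordPQ_of_twoP {p q m n : ℕ} (h : TwoP G p q m n) : OrdPQ G p q := by
  intro g
  have hk0 : orderOf g ≠ 0 := (orderOf_pos g).ne'
  have hcnt : ordCnt G (orderOf g) ≠ 0 :=
    (Nat.pos_iff_ne_zero).1 ((Cfsg.Agent.Helper20.ordCnt_pos_iff (G := G) (orderOf g)).2 ⟨g, rfl⟩)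
  have hdown : ∀ d : ℕ, d ∣ orderOf g → ordCnt G d ≠ 0 := fun d hd =>
    Cfsg.Agent.Lead.SOT.ordCnt_down hd hcnt
  refine arith_pq h.hp h.hq hk0 ?_ ?_ ?_ ?_
  · intro r hr hrk
    exact h.only r hr (dvd_trans hrk (orderOf_dvd_natCard g))
  · intro hd
    exact hdown _ hd (no_sq h).1
  · intro hd
    exact hdown _ hd (no_sq h).2
  · intro hd
    exact hdown _ hd (no_pq h)

theorem exponent_sylow {p q : ℕ} (hp : p.Prime) (hq : q.Prime) (hpq : p ≠ q) (hord : OrdPQ G p q)
    (honly : ∀ r : ℕ, r.Prime → r ∣ Nat.card G → r = p ∨ r = q)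
    (r : ℕ) [Fact r.Prime] (P : Sylow r G) (hr : r ∣ Nat.card G) :
    Monoid.exponent ↥(P : Subgroup G) = r := by
  have hrp : r.Prime := Fact.out
  have hpow : ∀ x : ↥(P : Subgroup G), x ^ r = 1 := by
    intro x
    obtain ⟨k, hk⟩ := (IsPGroup.iff_orderOf.1 P.2) x
    have hox : orderOf (x : G) = orderOf x := Subgroup.orderOf_coe x
    have h3 := hord (x : G)
    rw [hox] at h3
    have hdvd : orderOf x ∣ r := by
      rcases h3 with h1 | h1 | h1
      · rw [h1]; exact one_dvd r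
      · -- order p = r ^ k
        rw [h1] at hk
        have hrdp : r ∣ p := by
          rcases Nat.eq_zero_or_pos k with hk0 | hk0
          · rw [hk0, pow_zero] at hk
            exact absurd hk hp.one_lt.ne'
          · rw [hk]; exact dvd_pow_self r hk0.ne'
        have : r = p := (Nat.prime_dvd_prime_iff_eq hrp hp).1 hrdp
        rw [h1, this]
      · rw [h1] at hk
        have hrdq : r ∣ q := by
          rcases Nat.eq_zero_or_pos k with hk0 | hk0
          · rw [hk0, pow_zero] at hk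
            exact absurd hk hq.one_lt.ne'
          · rw [hk]; exact dvd_pow_self r hk0.ne'
        have : r = q := (Nat.prime_dvd_prime_iff_eq hrp hq).1 hrdq
        rw [h1, this]
    exact orderOf_dvd_iff_pow_eq_one.1 hdvd
  have hdvd : Monoid.exponent ↥(P : Subgroup G) ∣ r :=
    Monoid.exponent_dvd_of_forall_pow_eq_one hpow
  rcases (Nat.dvd_prime hrp).1 hdvd with h1 | h1
  · exfalso
    have hsub : Subsingleton ↥(P : Subgroup G) := Monoid.exp_eq_one_iff.1 h1
    have hbot : (P : Subgroup G) = ⊥ := by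
      rw [Subgroup.eq_bot_iff_forall]
      intro x hx
      have := Subsingleton.elim (⟨x, hx⟩ : ↥(P : Subgroup G)) 1
      exact congrArg Subtype.val this
    exact Sylow.ne_bot_of_dvd_card P hr hbot
  · exact h1

end Cfsg.Agent.Helper9.S44
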