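import Mathlib
import Cfsg.Agent.Lib.S44.S44Defs
import Cfsg.Agent.Lib.SOT.SOTDefs
import Cfsg.Agent.Lib.SOT.SOTOdd
import Cfsg.Agent.Lib.SOT.SOTGrpA
import Cfsg.Agent.Lib.SOT.SOTGrpB

/-!
# PIECE S44-SETUP (row S4004): from the hypotheses of S4004 to the structure `TwoP`  (SMALL-MEDIUM)

RECIPE.  `vals_of_ncard h` (SOTGrpB) gives `m n` with `m ≠ n` and
`hv : ∀ g, ordCnt G (orderOf g) = 1 ∨ = m ∨ = n`.  As in `sotmain_vals` (Lib/SOT/SOTMain.lean, copy its 12-line proof
here under the name `s44setup_vals`; do NOT import SOTMain) get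
`hvals : ∀ k, 3 ≤ k → ordCnt G k = 0 ∨ ordCnt G k = m ∨ ordCnt G k = n` (uses `even_ordCnt`).
`hfd := fd_of_vals hvals : FD (Nat.card G) (ordCnt G) m n`.
* `primeFactors_le_two`: `hfd.card_primeFactors_le_two hodd`.
* `twoP_of_hyp`: `Finset.card_eq_two.1 h2` gives `p ≠ q` with `primeFactors = {p, q}`; both are odd primes dividing
  `Nat.card G` (`Nat.mem_primeFactors`; odd because `Odd (Nat.card G)`, cf. `sotodd_ne_two`); `only` from
  membership in `{p, q}`.  `hfd.prime_val` gives `ordCnt G p ∈ {m, n}` and `ordCnt G q ∈ {m, n}`;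
  `hfd.odd_same_class_false hodd hp hq hpq hpN hqN` shows `ordCnt G p ≠ ordCnt G q`.  If `ordCnt G p = m` then
  `ordCnt G q = n`: use `⟨p, q, m, n, …⟩`; otherwise `ordCnt G p = n`, `ordCnt G q = m`: use `⟨p, q, n, m, …⟩` with
  `vals` reordered.  Aux names: prefix `s44setup_`.
-/

set_option autoImplicit false

namespace Cfsg.Agent.Helper9.S44

open Cfsg.Agent.Helper20 (ordCnt)
open Cfsg.Agent.Lead.SOT

variable {G : Type*} [Group G] [Finite G]

theorem s44setup_vals {m n : ℕ}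
    (hv : ∀ g : G, ordCnt G (orderOf g) = 1 ∨ ordCnt G (orderOf g) = m ∨
      ordCnt G (orderOf g) = n) (k : ℕ) (hk : 3 ≤ k) :
    ordCnt G k = 0 ∨ ordCnt G k = m ∨ ordCnt G k = n := by
  by_cases h0 : ordCnt G k = 0
  · exact Or.inl h0
  · right
    obtain ⟨g, hg⟩ := (Cfsg.Agent.Helper20.ordCnt_pos_iff k).1 (Nat.pos_of_ne_zero h0)
    have := hv g
    rw [hg] at this
    rcases this with h1 | h1
    · exfalso
      have he := even_ordCnt (G := G) hk
      rw [h1] at he
      exact absurd he (by decide)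
    · exact h1

theorem primeFactors_le_two (hodd : Odd (Nat.card G))
    (h : (((fun m : ℕ => Nat.card {g : G // orderOf g = m}) '' Set.range (orderOf : G → ℕ))).ncard = 3) :
    (Nat.card G).primeFactors.card ≤ 2 := by
  obtain ⟨m, n, -, -, -, hv⟩ := vals_of_ncard h
  exact (fd_of_vals (s44setup_vals hv)).card_primeFactors_le_two hodd

theorem twoP_of_hyp (hodd : Odd (Nat.card G))
    (h : (((fun m : ℕ => Nat.card {g : G // orderOf g = m}) '' Set.range (orderOf : G → ℕ))).ncard = 3)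
    (h2 : (Nat.card G).primeFactors.card = 2) : ∃ p q m n : ℕ, TwoP G p q m n := by
  obtain ⟨m, n, -, -, hmn, hv⟩ := vals_of_ncard h
  have hvals := s44setup_vals hv
  have hfd := fd_of_vals hvals
  obtain ⟨p, q, hpq, hpf⟩ := Finset.card_eq_two.1 h2
  have hpm : p ∈ (Nat.card G).primeFactors := by rw [hpf]; simp
  have hqm : q ∈ (Nat.card G).primeFactors := by rw [hpf]; simp
  rw [Nat.mem_primeFactors] at hpm hqm
  obtain ⟨hp, hpN, -⟩ := hpm
  obtain ⟨hq, hqN, -⟩ := hqm
  have hp2 : p ≠ 2 := sotodd_ne_two hodd hpN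
  have hq2 : q ≠ 2 := sotodd_ne_two hodd hqN
  have honly : ∀ r : ℕ, r.Prime → r ∣ Nat.card G → r = p ∨ r = q := by
    intro r hr hrN
    have hrm : r ∈ (Nat.card G).primeFactors :=
      Nat.mem_primeFactors.2 ⟨hr, hrN, Nat.card_pos.ne'⟩
    rw [hpf] at hrm
    simpa using hrm
  have hne : ordCnt G p ≠ ordCnt G q := fun e =>
    hfd.odd_same_class_false hodd hp hq hpq hpN hqN e
  rcases hfd.prime_val hp hp2 hpN with hsp | hsp
  · rcases hfd.prime_val hq hq2 hqN with hsq | hsq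
    · exact absurd (hsp.trans hsq.symm) hne
    · exact ⟨p, q, m, n, ⟨hp, hq, hp2, hq2, hpq, hpN, hqN, honly, hsp, hsq, hmn, hvals⟩⟩
  · rcases hfd.prime_val hq hq2 hqN with hsq | hsq
    · refine ⟨p, q, n, m, ⟨hp, hq, hp2, hq2, hpq, hpN, hqN, honly, hsp, hsq, fun e => hmn e.symm, ?_⟩⟩
      intro k hk
      rcases hvals k hk with h0 | h0 | h0
      · exact Or.inl h0
      · exact Or.inr (Or.inr h0)
      · exact Or.inr (Or.inl h0)
    · exact absurd (hsp.trans hsq.symm) hne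

end Cfsg.Agent.Helper9.S44
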