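import Mathlib
import Cfsg.Prelude.Def_Solvable
import Cfsg.Agent.Lib.S44.S44Defs
import Cfsg.Agent.Lib.S44.S44Setup
import Cfsg.Agent.Lib.S44.S44Ord
import Cfsg.Agent.Lib.S44.S44Compl
import Cfsg.Agent.Lib.SOT.SOTSolv

/-!
# S4004: assembly (helper9)
-/

set_option autoImplicit false

namespace Cfsg.Agent.Helper9.S44

variable {G : Type*} [Group G] [Finite G]

theorem s4004_main (hodd : Odd (Nat.card G))
    (h : (((fun m : ℕ => Nat.card {g : G // orderOf g = m}) '' Set.range (orderOf : G → ℕ))).ncard = 3) :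
    (Nat.card G).primeFactors.card ≤ 2 ∧
      ((Nat.card G).primeFactors.card = 2 →
        (∀ (p : ℕ) [Fact p.Prime] (P : Sylow p G), p ∣ Nat.card G →
          Monoid.exponent ↥(P : Subgroup G) = p) ∧
        ∃ C : Subgroup G, Cfsg.IsFrobeniusComplement C ∧ (Nat.card ↥C).Prime) := by
  refine ⟨primeFactors_le_two hodd h, fun h2 => ?_⟩
  obtain ⟨p, q, m, n, hT⟩ := twoP_of_hyp hodd h h2
  have hord := ordPQ_of_twoP hT
  haveI : Group.IsSolvable G :=
    Cfsg.Agent.Lead.SOT.solvable_of_card_primeFactors_le_two (le_of_eq h2)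
  refine ⟨?_, exists_complement' hT.hp hT.hq hT.hpq hord hT.hpN hT.hqN hT.only⟩
  intro r _ P hr
  exact exponent_sylow hT.hp hT.hq hT.hpq hord hT.only r P hr

end Cfsg.Agent.Helper9.S44
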